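import Groth.Agent.Lib.SemiAbIsog.Basic
import Mathlib.AlgebraicGeometry.AlgClosed.Basic

/-!
# Normality from rational points
-/

set_option autoImplicit false
set_option linter.style.haveILetI false
set_option backward.isDefEq.respectTransparency false
universe u

open CategoryTheory Limits MonoidalCategory CartesianMonoidalCategory MonObj GrpObj AlgebraicGeometry

namespace Groth.Agent.Lib.SemiAbIsog.NormalPts

variable {K : Type u} [Field K]

/-- A morphism from a reduced scheme with image inside a closed subscheme factors through it. -/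
theorem factor_of_range {X R G : Over (Spec (CommRingCat.of K))} [IsReduced X.left] (j : R ⟶ G)
    [IsClosedImmersion j.left] (f : X ⟶ G) (h : Set.range f.left ⊆ Set.range j.left) :
    ∃ w : X ⟶ R, w ≫ j = f := by
  haveI : Surjective (Limits.pullback.snd j.left f.left) := ⟨fun y => by
    obtain ⟨z, hz⟩ := h ⟨y, rfl⟩
    obtain ⟨v, -, hv⟩ := Scheme.Pullback.exists_preimage_pullback z y hz
    exact ⟨v, hv⟩⟩
  haveI : IsIso (Limits.pullback.snd j.left f.left) := isIso_of_isClosedImmersion_of_surjective _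
  have hz : (inv (Limits.pullback.snd j.left f.left) ≫ Limits.pullback.fst j.left f.left) ≫ j.left = f.left := by
    rw [Category.assoc, Limits.pullback.condition, IsIso.inv_hom_id_assoc]
  refine ⟨Over.homMk (inv (Limits.pullback.snd j.left f.left) ≫ Limits.pullback.fst j.left f.left) ?_,
    Over.OverMorphism.ext hz⟩
  rw [← Over.w j, ← Category.assoc, hz, Over.w f]

variable [IsAlgClosed K]

/-- A smooth subgroup of a smooth group which is stable under conjugation by rational points is normal. -/
theorem isNormalHom_of_points {R G : Over (Spec (CommRingCat.of K))} [GrpObj R] [GrpObj G] [Smooth G.hom]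
    [Smooth R.hom] (j : R ⟶ G) [IsMonHom j] [IsClosedImmersion j.left]
    (h : ∀ g : 𝟙_ (Over (Spec (CommRingCat.of K))) ⟶ G, ∃ w : R ⟶ R, w ≫ j = (toUnit R ≫ g) * j * (toUnit R ≫ g)⁻¹) :
    AlgGrp.IsNormalHom j := by
  haveI : Smooth (G ⊗ R).hom := GrpQ.smooth_tensor
  haveI : IsReduced (G ⊗ R).left := GrpSch.isReduced_of_smooth_field (G ⊗ R).hom
  haveI : JacobsonSpace (G ⊗ R).left := LocallyOfFiniteType.jacobsonSpace (G ⊗ R).hom
  let F : G ⊗ R ⟶ G := fst G R * (snd G R ≫ j) * (fst G R)⁻¹
  have hF : Set.range F.left ⊆ Set.range j.left := by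
    have hcl : IsClosed (F.left ⁻¹' Set.range j.left) :=
      j.left.isClosedEmbedding.isClosed_range.preimage F.left.continuous
    have hall : (Set.univ : Set (G ⊗ R).left) ⊆ F.left ⁻¹' Set.range j.left := by
      rw [← closure_closedPoints]
      refine closure_minimal (fun c hc => ?_) hcl
      let p : 𝟙_ (Over (Spec (CommRingCat.of K))) ⟶ G ⊗ R :=
        Over.homMk (pointOfClosedPoint (G ⊗ R).hom c hc) (pointOfClosedPoint_comp _ _ _)
      obtain ⟨w, hw⟩ := h (p ≫ fst G R)
      have he : p ≫ F = ((p ≫ snd G R) ≫ w) ≫ j := by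
        rw [Category.assoc (p ≫ snd G R), hw]
        simp only [F, MonObj.comp_mul, GrpObj.comp_inv, ← Category.assoc, toUnit_unique (_ ≫ toUnit R) (𝟙 _),
          Category.id_comp]
      refine ⟨((p ≫ snd G R) ≫ w).left (IsLocalRing.closedPoint K), ?_⟩
      rw [← Scheme.Hom.comp_apply, ← Over.comp_left, ← he, Over.comp_left, Scheme.Hom.comp_apply]
      exact congrArg F.left (pointOfClosedPoint_apply _ _ _ _)
    rintro _ ⟨x, rfl⟩
    exact hall (Set.mem_univ x)
  obtain ⟨W, hW⟩ := factor_of_range j F hF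
  intro T g n
  refine ⟨lift g n ≫ W, ?_⟩
  rw [Category.assoc, hW]
  simp only [F, MonObj.comp_mul, GrpObj.comp_inv, lift_fst, lift_snd_assoc]

end Groth.Agent.Lib.SemiAbIsog.NormalPts

namespace Groth.Agent.Lib.SemiAbIsog.NormalPts

/-- A subgroup normal in the big group is normal in every intermediate one. -/
theorem normal_restrict {S : Scheme.{u}} {R K G : Over S} [GrpObj R] [GrpObj K] [GrpObj G] (j : K ⟶ G) [IsMonHom j]
    [Mono j] (t : R ⟶ K) (h : AlgGrp.IsNormalHom (t ≫ j)) : AlgGrp.IsNormalHom t := by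
  intro T x n
  obtain ⟨n', hn'⟩ := h T (x ≫ j) n
  refine ⟨n', ?_⟩
  rw [← cancel_mono j, MonObj.mul_comp, MonObj.mul_comp, GrpObj.inv_comp, Category.assoc, Category.assoc]
  exact hn'

end Groth.Agent.Lib.SemiAbIsog.NormalPts
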