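import Groth.Agent.Lib.IsogLaw.Sub
import Groth.Agent.Lib.TopDim.Basic
import Mathlib.AlgebraicGeometry.AlgClosed.Basic

/-!
# The dimension of a group is that of its neutral component
-/

set_option autoImplicit false
set_option linter.style.haveILetI false
set_option backward.isDefEq.respectTransparency false
universe u

open CategoryTheory Limits MonoidalCategory CartesianMonoidalCategory MonObj GrpObj AlgebraicGeometry

namespace Groth.Agent.Lib.SemiAbIsog.CompDim

variable {K : Type u} [Field K] [IsAlgClosed K]

theorem dim_le_component (R : Over (Spec (CommRingCat.of K))) [GrpObj R] [LocallyOfFiniteType R.hom] :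
    topologicalKrullDim R.left ≤
      topologicalKrullDim ↥(connectedComponent (η[R].left (IsLocalRing.closedPoint K))) := by
  haveI : IsLocallyNoetherian R.left := LocallyOfFiniteType.isLocallyNoetherian R.hom
  haveI : LocallyConnectedSpace R.left :=
    FinCond.locallyConnectedSpace_of_locally_noetherian fun x => FinCond.locally_noetherian R.left x
  haveI : JacobsonSpace R.left := LocallyOfFiniteType.jacobsonSpace R.hom
  let e := η[R].left (IsLocalRing.closedPoint K)
  let Y : _root_.ConnectedComponents R.left → Set R.left := fun c => _root_.ConnectedComponents.mk ⁻¹' {c}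
  have hY : ∀ x : R.left, Y (_root_.ConnectedComponents.mk x) = connectedComponent x :=
    fun x => connectedComponents_preimage_singleton
  rw [TopDim.Basic.topologicalKrullDim_eq_iSup_of_locallyFinite Y
    (fun c => by
      obtain ⟨x, rfl⟩ := _root_.ConnectedComponents.surjective_coe c
      rw [hY]
      exact isClosed_connectedComponent)
    (fun x => ⟨connectedComponent x, isOpen_connectedComponent.mem_nhds mem_connectedComponent, by
      refine (Set.finite_singleton (_root_.ConnectedComponents.mk x)).subset ?_
      rintro c ⟨z, hz, hz'⟩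
      simp only [Y, Set.mem_preimage, Set.mem_singleton_iff] at hz
      rw [Set.mem_singleton_iff, ← hz, _root_.ConnectedComponents.coe_eq_coe]
      exact (connectedComponent_eq hz').symm⟩)
    (Set.eq_univ_of_forall fun x => Set.mem_iUnion.mpr ⟨_root_.ConnectedComponents.mk x, rfl⟩)]
  refine iSup_le fun c => ?_
  obtain ⟨x, rfl⟩ := _root_.ConnectedComponents.surjective_coe c
  rw [hY]
  obtain ⟨y, hy, hyc⟩ := nonempty_inter_closedPoints (X := R.left) ⟨x, mem_connectedComponent⟩
    (isOpen_connectedComponent (x := x)).isLocallyClosed
  rw [connectedComponent_eq hy]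
  let p : 𝟙_ (Over (Spec (CommRingCat.of K))) ⟶ R :=
    Over.homMk (pointOfClosedPoint R.hom y hyc) (pointOfClosedPoint_comp _ _ _)
  let τ : R ≅ R :=
    { hom := (toUnit R ≫ p) * 𝟙 R
      inv := (toUnit R ≫ p)⁻¹ * 𝟙 R
      hom_inv_id := by
        rw [MonObj.comp_mul, GrpObj.comp_inv, ← Category.assoc, toUnit_unique (_ ≫ toUnit R) (toUnit R),
          Category.comp_id, inv_mul_cancel_left]
      inv_hom_id := by
        rw [MonObj.comp_mul, ← Category.assoc, toUnit_unique (_ ≫ toUnit R) (toUnit R), Category.comp_id,
          mul_inv_cancel_left] }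
  let h : R.left ≃ₜ R.left := Scheme.homeoOfIso ((Over.forget _).mapIso τ)
  have he : h e = y := by
    show τ.hom.left (η[R].left (IsLocalRing.closedPoint K)) = y
    rw [← Scheme.Hom.comp_apply, ← Over.comp_left, MonObj.comp_mul, Category.comp_id, ← Category.assoc,
      toUnit_unique (η[R] ≫ toUnit R) (𝟙 _), Category.id_comp]
    have h1 : (η[R] : 𝟙_ (Over (Spec (CommRingCat.of K))) ⟶ R) = 1 := by
      rw [Hom.one_def, toUnit_unique (toUnit _) (𝟙 _), Category.id_comp]
    rw [h1, _root_.mul_one]
    exact pointOfClosedPoint_apply _ _ _ _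
  have himg := h.image_connectedComponentIn (s := Set.univ) (x := e) trivial
  rw [Set.image_univ, h.surjective.range_eq, connectedComponentIn_univ, connectedComponentIn_univ, he] at himg
  rw [← himg, ← IsHomeomorph.topologicalKrullDim_eq _ (h.image (connectedComponent e)).isHomeomorph]

end Groth.Agent.Lib.SemiAbIsog.CompDim
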