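import Groth.Agent.S3044
import Groth.Agent.H1.Hopf
import Groth.Agent.Lib.GrpQ.Kernel
import Groth.Agent.Lib.GrpQ.ThirdIso
import Groth.Agent.H87.CentralExt
import Groth.Agent.Lib.GrpSch.SmoothReduced
import Groth.Agent.S5342
import Groth.Agent.Lib.GrpQ.SubEq
import Groth.Agent.S16615
import Groth.Agent.S19598
import Groth.Agent.Lib.GrpSch.GenericIso
import Groth.Agent.H4.KernelSquare
import Groth.Agent.Lib.Flat55.FibreTransfer

/-!
# Tools for isogenies onto semi-abelian varieties
-/

set_option autoImplicit false
set_option linter.style.haveILetI false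
set_option backward.isDefEq.respectTransparency false
universe u

open CategoryTheory Limits MonoidalCategory CartesianMonoidalCategory MonObj GrpObj AlgebraicGeometry
open WithConv

namespace Groth.Agent.Lib.SemiAbIsog.Basic

variable {k : Type u} [Field k]

/-- A finite group scheme over a field is killed by a positive integer. -/
theorem exists_killed (N : Over (Spec (CommRingCat.of k))) [GrpObj N] [IsFinite N.hom] :
    ∃ m : ℕ, 0 < m ∧ (𝟙 N : N ⟶ N) ^ m = 1 := by
  haveI : IsAffine N.left := isAffine_of_isAffineHom N.hom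
  obtain ⟨A, _, _, e, he⟩ := H1.Hopf.exists_iso N
  haveI := he
  haveI : IsIso e.inv.left := ((Over.forget _).mapIso e.symm).isIso_hom
  haveI hA : Module.Finite k A := by
    have h : IsFinite (e.inv.left ≫ N.hom) := inferInstance
    rw [Over.w e.inv] at h
    exact RingHom.finite_algebraMap.mp ((IsFinite.SpecMap_iff (f := CommRingCat.ofHom (algebraMap k A))).mp h)
  haveI : Nontrivial A := (Bialgebra.counitAlgHom k A).toRingHom.domain_nontrivial
  refine ⟨Module.finrank k A, Module.finrank_pos, ?_⟩
  have h := Groth.Agent.S3044.result k A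
  have h2 := congrArg (Spec.mapMulEquiv (R := k) (S := A) (T := A)) h
  rw [map_pow, map_one] at h2
  have hid : Spec.mapMulEquiv (R := k) (S := A) (T := A) (toConv (AlgHom.id k A)) = 𝟙 _ := by
    ext1
    exact Spec.map_id _
  rw [hid] at h2
  rw [← cancel_mono e.hom, MonObj.pow_comp, Category.id_comp, MonObj.one_comp]
  have h3 := congrArg (e.hom ≫ ·) h2
  simp only [MonObj.comp_pow, MonObj.comp_one, Category.comp_id] at h3
  exact h3

/-- A morphism from a connected reduced scheme to a finite one is constant. -/
theorem eq_const {P N : Over (Spec (CommRingCat.of k))} [IsFinite N.hom] [ConnectedSpace P.left] [IsReduced P.left]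
    (w : P ⟶ N) (a : 𝟙_ (Over (Spec (CommRingCat.of k))) ⟶ P) : w = toUnit P ≫ a ≫ w := by
  haveI : IsLocallyArtinian N.left := .of_locallyQuasiFinite N.hom
  haveI : DiscreteTopology N.left := inferInstance
  let o := a ≫ w
  haveI : IsClosedImmersion o.left := by
    haveI : IsClosedImmersion (o.left ≫ N.hom) := by
      rw [Over.w o]; exact inferInstanceAs (IsClosedImmersion (𝟙 _))
    exact IsClosedImmersion.of_comp o.left N.hom
  have hconst : Set.range w.left ⊆ Set.range o.left := by
    rintro _ ⟨y, rfl⟩
    refine ⟨IsLocalRing.closedPoint k, ?_⟩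
    have h := (isPreconnected_univ.image _ w.left.continuous.continuousOn).subsingleton
      ⟨a.left (IsLocalRing.closedPoint k), trivial, rfl⟩ ⟨y, trivial, rfl⟩
    exact h
  haveI : Surjective (Limits.pullback.snd o.left w.left) := ⟨fun y => by
    obtain ⟨z, hz⟩ := hconst ⟨y, rfl⟩
    obtain ⟨v, -, hv⟩ := Scheme.Pullback.exists_preimage_pullback z y hz
    exact ⟨v, hv⟩⟩
  haveI : IsIso (Limits.pullback.snd o.left w.left) := isIso_of_isClosedImmersion_of_surjective _
  have hz : (inv (Limits.pullback.snd o.left w.left) ≫ Limits.pullback.fst o.left w.left) ≫ o.left = w.left := by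
    rw [Category.assoc, Limits.pullback.condition, IsIso.inv_hom_id_assoc]
  have hzh : inv (Limits.pullback.snd o.left w.left) ≫ Limits.pullback.fst o.left w.left = P.hom := by
    have hz' := hz =≫ N.hom
    rw [Category.assoc, Over.w o, Over.w w] at hz'
    exact (Category.comp_id _).symm.trans hz'
  rw [hzh] at hz
  exact Over.OverMorphism.ext (by rw [← hz]; rfl)

/-- The source of a finite-kernel homomorphism onto a commutative group is commutative. -/
theorem isCommMonObj_of_ker {G H N : Over (Spec (CommRingCat.of k))} [GrpObj G] [GrpObj H] [GrpObj N]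
    [Smooth G.hom] [ConnectedSpace G.left] [IsCommMonObj H] [IsFinite N.hom] (f : G ⟶ H) [IsMonHom f]
    (n : N ⟶ G) [IsMonHom n] (hker : AlgGrp.IsKernel n f) : IsCommMonObj G := by
  haveI : Smooth (G ⊗ G).hom := GrpQ.smooth_tensor
  haveI : IsReduced (G ⊗ G).left := GrpSch.isReduced_of_smooth_field (G ⊗ G).hom
  haveI : ConnectedSpace (G ⊗ G).left :=
    Groth.Agent.S5342.result k G.left G.left G.hom G.hom η[G].left (Over.w η[G])
  haveI : Mono n := ⟨fun a b h => hker.hom_ext h (toUnit_unique _ _)⟩
  let c : G ⊗ G ⟶ G := fst G G * snd G G * (fst G G)⁻¹ * (snd G G)⁻¹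
  have hc : c ≫ f = toUnit (G ⊗ G) ≫ η[H] := by
    rw [← Hom.one_def]
    simp only [c, MonObj.mul_comp, GrpObj.inv_comp]
    rw [_root_.mul_comm (fst G G ≫ f), mul_inv_cancel_right, mul_inv_cancel]
  have e : c = 1 := by
    rw [← hker.lift_fst c (toUnit _) hc, eq_const (hker.lift c (toUnit _) hc) (lift 1 1), Category.assoc,
      Category.assoc, hker.lift_fst]
    simp only [c, MonObj.comp_mul, GrpObj.comp_inv, lift_fst, lift_snd, MonObj.comp_one,
      _root_.mul_one, inv_one]
  refine H87.CentralExt.isComm_of_points fun X a b => ?_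
  have h := congrArg (lift a b ≫ ·) e
  simp only [c, MonObj.comp_mul, GrpObj.comp_inv, lift_fst, lift_snd, MonObj.comp_one] at h
  rw [mul_inv_eq_one, mul_inv_eq_iff_eq_mul] at h
  exact h

/-- A torus is of multiplicative type. -/
theorem isMultTypeFT_of_isTorus {T : Over (Spec (CommRingCat.of k))} [GrpObj T] (hT : Red.IsTorus T) :
    SGA3x.IsMultTypeFT T := by
  obtain ⟨S', f, hf, hs, hc, hloc⟩ := hT
  refine ⟨S', f, hf, hs, hc, fun s' => ?_⟩
  obtain ⟨U, hU, r, e⟩ := hloc s'
  exact ⟨U, hU, Fin r → ℤ, inferInstance, inferInstance, e⟩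

/-- The image of a torus under a surjective homomorphism is a torus. -/
theorem isTorus_quotient {T Q : Over (Spec (CommRingCat.of k))} [GrpObj T] [GrpObj Q]
    [LocallyOfFiniteType T.hom] [QuasiCompact T.hom] [LocallyOfFiniteType Q.hom]
    (hT : Red.IsTorus T) (p : T ⟶ Q) [IsMonHom p] [Flat p.left] [Surjective p.left] : Red.IsTorus Q := by
  haveI : IsSeparated Q.hom := GrpSch.isSeparated_of_field Q
  obtain ⟨W, _, i, hi, hic, hker, -⟩ := GrpQ.exists_kernel p
  haveI := hi; haveI := hic
  haveI : Mono i := Over.mono_of_mono_left i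
  haveI : LocallyOfFiniteType W.hom := by rw [← Over.w i]; infer_instance
  have hW : SGA3x.IsMultTypeFT W := Groth.Agent.S19598.result W T (isMultTypeFT_of_isTorus hT) i hic
    (GrpSch.flat_of_isField (Field.toIsField k) _) inferInstance
  haveI : LocallyOfFinitePresentation p.left :=
    Flat55.FibreTransfer.locallyOfFinitePresentation_of_comp (g := Q.hom)
      (by rw [Over.w p]; infer_instance) inferInstance
  refine Groth.Agent.S16615.result hT i hW p ⟨inferInstance, inferInstance, inferInstance, ?_⟩
  have h := H4.KernelSquare.isPullback p i hker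
  rwa [Hom.mul_def, ← lift_whiskerLeft_assoc, lift_fst_snd, Category.id_comp] at h

end Groth.Agent.Lib.SemiAbIsog.Basic
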