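import Groth.Agent.Lib.SemiAbIsog.Basic
import Groth.Agent.S3030
import Groth.Agent.S7983
import Groth.Agent.Lib.GrpQ.MonoClosed
import Groth.Agent.Lib.GrpQ.DomFF
import Groth.Agent.Lib.GenSub.ImageMap
import Groth.Agent.Lib.GenSub.Basic
import Groth.Agent.Lib.GrpQ.Image
import Groth.Agent.H87.HomDS
import Mathlib.AlgebraicGeometry.Group.Smooth

/-!
# Images of smooth groups; homomorphisms from affine groups to proper ones
-/

set_option autoImplicit false
set_option linter.style.haveILetI false
set_option backward.isDefEq.respectTransparency false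
universe u

open CategoryTheory Limits MonoidalCategory CartesianMonoidalCategory MonObj GrpObj AlgebraicGeometry

namespace Groth.Agent.Lib.SemiAbIsog.Image

variable {k : Type u} [Field k] {G G' : Over (Spec (CommRingCat.of k))} [GrpObj G] [GrpObj G']

/-- A connected smooth finite group is trivial. -/
theorem id_eq_one [IsFinite G.hom] [Smooth G.hom] [ConnectedSpace G.left] : (𝟙 G : G ⟶ G) = 1 := by
  haveI : IsReduced G.left := GrpSch.isReduced_of_smooth_field G.hom
  refine (Basic.eq_const (𝟙 G) η[G]).trans ?_
  rw [Category.comp_id, ← Hom.one_def]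

/-- The image of a smooth connected group. -/
theorem exists_image_smooth [Smooth G.hom] [QuasiCompact G.hom] [ConnectedSpace G.left]
    [LocallyOfFiniteType G'.hom] [QuasiCompact G'.hom] (u : G ⟶ G') [IsMonHom u] :
    ∃ (C : Over (Spec (CommRingCat.of k))) (_ : GrpObj C) (p : G ⟶ C) (c : C ⟶ G'), IsMonHom p ∧ IsMonHom c ∧
      p ≫ c = u ∧ IsClosedImmersion c.left ∧ Surjective p.left ∧ Flat p.left ∧
      LocallyOfFinitePresentation p.left ∧ Smooth C.hom ∧ ConnectedSpace C.left ∧ QuasiCompact C.hom := by
  haveI : IsSeparated G'.hom := GrpSch.isSeparated_of_field G'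
  obtain ⟨C, _, p, c, hpm, hcm, hpc, hstd, hcc⟩ := GrpQ.Image.exists_image u
  haveI := hpm; haveI := hcm; haveI := hcc; haveI := hstd
  haveI : LocallyOfFiniteType C.hom := by rw [← Over.w c]; infer_instance
  haveI : QuasiCompact C.hom := by rw [← Over.w c]; infer_instance
  haveI : IsReduced G.left := GrpSch.isReduced_of_smooth_field G.hom
  haveI : QuasiCompact p.left := GrpQ.quasiCompact_left p
  haveI : GeometricallyReduced G.hom := GrpSch.geometricallyReduced_of_smooth_field G.hom
  haveI : IsReduced C.left := ⟨fun W => isReduced_of_injective (p.left.app W).hom (p.left.app_injective W)⟩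
  haveI : GeometricallyReduced C.hom := GenSub.geometricallyReduced_of_dense C fun O hO => by
    obtain ⟨y, hy⟩ := p.left.denseRange.exists_mem_open O.2 hO
    exact ⟨G, p, inferInstance, y, hy⟩
  haveI : GrpObj (Over.mk C.hom) := inferInstanceAs (GrpObj C)
  haveI : Smooth C.hom := smooth_of_grpObj C.hom
  have hclosed : IsClosed (Set.range p.left) := GenSub.isClosed_range_of_map p μ[G]
    (IsMonHom.mul_hom p) η[G] GrpObj.inv (by
      have h : (𝟙 G)⁻¹ ≫ p = p⁻¹ := by rw [GrpObj.inv_comp (𝟙 G) p, Category.id_comp]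
      simpa [Hom.inv_def] using h)
  haveI : Surjective p.left := ⟨by
    rw [← Set.range_eq_univ, ← hclosed.closure_eq]
    exact p.left.denseRange.closure_range⟩
  haveI : Flat p.left := GrpQ.flat_of_surjective_of_smooth p
  haveI : LocallyOfFinitePresentation p.left :=
    Flat55.FibreTransfer.locallyOfFinitePresentation_of_comp (g := C.hom)
      (by rw [Over.w p]; infer_instance) inferInstance
  exact ⟨C, inferInstance, p, c, hpm, hcm, hpc, hcc, inferInstance, inferInstance, inferInstance, inferInstance,
    p.left.surjective.connectedSpace p.left.continuous, inferInstance⟩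

/-- A homomorphism from a smooth connected affine group to a proper group is trivial. -/
theorem eq_one_of_affine_proper [IsAffine G.left] [Smooth G.hom] [ConnectedSpace G.left]
    [IsProper G'.hom] (u : G ⟶ G') [IsMonHom u] : u = 1 := by
  haveI : QuasiCompact G.hom := inferInstance
  obtain ⟨C, _, p, c, hpm, hcm, hpc, hcc, hps, hpf, hplf, hCs, hCc, hCq⟩ := exists_image_smooth u
  haveI := hpm; haveI := hcm; haveI := hcc; haveI := hps; haveI := hpf; haveI := hCs; haveI := hCc; haveI := hCq
  haveI : IsAffine C.left := (Groth.Agent.S7983.result k G C p).1 inferInstance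
  haveI : IsProper C.hom := by rw [← Over.w c]; infer_instance
  haveI : IsFinite C.hom := IsFinite.iff_isProper_and_isAffineHom.mpr ⟨inferInstance, inferInstance⟩
  rw [← hpc, ← Category.id_comp c, id_eq_one (G := C), MonObj.one_comp, MonObj.comp_one]

end Groth.Agent.Lib.SemiAbIsog.Image

namespace Groth.Agent.Lib.SemiAbIsog.Image

/-- The map induced on a quotient by a homomorphism is a homomorphism. -/
theorem isMonHom_desc {k : Type u} [Field k] {X Q B : Over (Spec (CommRingCat.of k))} [GrpObj X] [GrpObj Q] [GrpObj B]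
    (q : X ⟶ Q) [IsMonHom q] [Flat q.left] [Surjective q.left] [LocallyOfFinitePresentation q.left]
    (u : X ⟶ B) [IsMonHom u] (r : Q ⟶ B) (hr : q ≫ r = u) : IsMonHom r :=
  Groth.Agent.H87.HomDS.isMonHom_of_points r fun T a b => by
    obtain ⟨X1, e1, a', ha, _, _, _⟩ := GrpQ.ThirdIso.exists_lift q a
    obtain ⟨X2, e2, b', hb, _, _, _⟩ := GrpQ.ThirdIso.exists_lift q (e1 ≫ b)
    haveI := H87.CentralExt.epi_of_cover e1
    haveI := H87.CentralExt.epi_of_cover e2
    rw [← cancel_epi e1, ← cancel_epi e2]
    have hab : e2 ≫ e1 ≫ (a * b) = ((e2 ≫ a') * b') ≫ q := by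
      rw [MonObj.mul_comp, hb, Category.assoc, ha, MonObj.comp_mul, MonObj.comp_mul]
    have haa : e2 ≫ e1 ≫ a = (e2 ≫ a') ≫ q := by rw [Category.assoc, ha]
    rw [MonObj.comp_mul, MonObj.comp_mul, ← Category.assoc e1 (a * b), ← Category.assoc e2, hab,
      Category.assoc, hr, MonObj.mul_comp]
    rw [← Category.assoc e1 a, ← Category.assoc e2, haa, ← Category.assoc e1 b, ← Category.assoc e2]
    rw [← hb]
    simp only [Category.assoc, hr]

end Groth.Agent.Lib.SemiAbIsog.Image
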